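import Groth.Agent.Lib.FunField.Ext
import Groth.Agent.Lib.FunField.Approx
import Mathlib.LinearAlgebra.TensorProduct.Basis

/-! # Nonsingularity with respect to a tower of constant fields -/

set_option autoImplicit false
set_option linter.style.haveILetI false

namespace Groth.Agent.NonsingTower28

open FunFld WithZero FunField Polynomial
open scoped Multiplicative TensorProduct

universe u v

section generic

variable {A : Type v} [Field A]

theorem isIntegral_of_le {R R' : Subring A} (h : R ≤ R') {z : A} (hz : IsIntegral R z) : IsIntegral R' z := by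
  obtain ⟨p, hp, hp0⟩ := hz
  exact ⟨p.map (Subring.inclusion h), hp.map _, by rw [eval₂_map]; exact hp0⟩

theorem isIntegral_subring_of_ringHom {k : Type u} [CommRing k] (R : Subring A) (g : k →+* A)
    (hg : ∀ c, g c ∈ R) {z : A} {p : k[X]} (hp : p.Monic) (h0 : p.eval₂ g z = 0) : IsIntegral R z :=
  ⟨p.map (g.codRestrict R hg), hp.map _, by rw [eval₂_map]; exact h0⟩

end generic

variable {k k' k'' : Type u} {K' K'' : Type v} [Field k'] [Field k''] [Field K'] [Field K'']
  [Algebra k' k''] [Algebra k' K'] [Algebra K' K''] [Algebra k'' K''] [Algebra k' K'']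
  [IsScalarTower k' k'' K''] [IsScalarTower k' K' K'']

theorem exists_basis {ι : Type*} [Fintype ι] (ω : Module.Basis ι k' k'')
    (h2 : Function.Bijective (Algebra.TensorProduct.productMap
      (IsScalarTower.toAlgHom k' k'' K'') (IsScalarTower.toAlgHom k' K' K''))) :
    ∃ W : Module.Basis ι K' K'', ∀ i, W i = algebraMap k'' K'' (ω i) := by
  classical
  set pm := Algebra.TensorProduct.productMap (IsScalarTower.toAlgHom k' k'' K'') (IsScalarTower.toAlgHom k' K' K'')
  have hpm : ∀ (a : k'') (x : K'), pm (a ⊗ₜ[k'] x) = algebraMap k'' K'' a * algebraMap K' K'' x := fun a x => rfl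
  have hli : LinearIndependent K' fun i => algebraMap k'' K'' (ω i) := by
    refine Fintype.linearIndependent_iff.2 fun x hx i => ?_
    have h0 : pm (∑ j, ω j ⊗ₜ[k'] x j) = pm 0 := by
      rw [map_sum, map_zero, ← hx]
      exact Finset.sum_congr rfl fun j _ => by rw [hpm, Algebra.smul_def, mul_comm]
    have h1 := congrArg (fun u => TensorProduct.equivFinsuppOfBasisLeft ω u i) (h2.1 h0)
    simpa [Finsupp.single_apply] using h1
  refine ⟨Module.Basis.mk hli fun z hz => ?_, fun i => Module.Basis.mk_apply _ _ i⟩
  clear hz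
  obtain ⟨u, rfl⟩ := h2.2 z
  induction u using TensorProduct.induction_on with
  | zero => rw [map_zero]; exact zero_mem _
  | add a b ha hb => rw [map_add]; exact add_mem ha hb
  | tmul a x =>
    rw [hpm, ← ω.sum_repr a, map_sum, Finset.sum_mul]
    refine Submodule.sum_mem _ fun i _ => ?_
    rw [Algebra.smul_def, map_mul, ← IsScalarTower.algebraMap_apply, IsScalarTower.algebraMap_apply k' K' K'',
      mul_right_comm, ← map_mul, ← Algebra.smul_def]
    exact Submodule.smul_mem _ _ (Submodule.subset_span ⟨i, rfl⟩)

/-- The ring generated by the bigger constants, in coordinates. -/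
theorem mem_adjoin_iff {ι : Type*} [Fintype ι] (ω : Module.Basis ι k' k'') (W : Module.Basis ι K' K'')
    (hW : ∀ i, W i = algebraMap k'' K'' (ω i)) (R₀ : Subring K') (R : Subring K'')
    (hR : R = R₀.map (algebraMap K' K'')) (z : K'') :
    z ∈ Algebra.adjoin R (Set.range (algebraMap k'' K'')) ↔
      ∀ i, W.repr z i ∈ Algebra.adjoin R₀ (Set.range (algebraMap k' K')) := by
  classical
  set S := Algebra.adjoin R₀ (Set.range (algebraMap k' K'))
  have hkS : ∀ c, algebraMap k' K' c ∈ S := fun c => Algebra.subset_adjoin ⟨c, rfl⟩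
  have hconst : ∀ (c : k'') i, W.repr (algebraMap k'' K'' c) i = algebraMap k' K' (ω.repr c i) := fun c i => by
    have e : algebraMap k'' K'' c = ∑ j, algebraMap k' K' (ω.repr c j) • W j := by
      conv_lhs => rw [← ω.sum_repr c, map_sum]
      refine Finset.sum_congr rfl fun j _ => ?_
      rw [hW, Algebra.smul_def, Algebra.smul_def, map_mul, ← IsScalarTower.algebraMap_apply,
        ← IsScalarTower.algebraMap_apply]
    rw [e, W.repr_sum_self]
  constructor
  · intro hz
    induction hz using Algebra.adjoin_induction with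
    | mem x hx =>
      obtain ⟨c, rfl⟩ := hx
      intro i; rw [hconst]; exact hkS _
    | algebraMap r =>
      intro i
      obtain ⟨r', hr', hrr⟩ : ∃ r' ∈ R₀, algebraMap K' K'' r' = (r : K'') := Subring.mem_map.1 (hR ▸ r.2)
      show W.repr (r : K'') i ∈ S
      rw [← hrr, show algebraMap K' K'' r' = r' • algebraMap k'' K'' 1 by
        rw [map_one, Algebra.smul_def, mul_one], map_smul, Finsupp.smul_apply, hconst, smul_eq_mul]
      exact S.mul_mem (Subalgebra.algebraMap_mem S (⟨r', hr'⟩ : R₀)) (hkS _)
    | add x y _ _ hx hy => intro i; rw [map_add, Finsupp.add_apply]; exact S.add_mem (hx i) (hy i)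
    | mul x y _ _ hx hy =>
      intro i
      rw [← W.sum_repr x, ← W.sum_repr y, Finset.sum_mul, map_sum, Finsupp.finsetSum_apply]
      refine S.sum_mem fun a _ => ?_
      rw [Finset.mul_sum, map_sum, Finsupp.finsetSum_apply]
      refine S.sum_mem fun b _ => ?_
      rw [smul_mul_smul_comm, map_smul, Finsupp.smul_apply, smul_eq_mul, hW, hW, ← map_mul, hconst]
      exact S.mul_mem (S.mul_mem (hx a) (hy b)) (hkS _)
  · intro hz
    rw [← W.sum_repr z]
    refine sum_mem fun i _ => ?_
    rw [Algebra.smul_def, hW]
    refine mul_mem ?_ (Algebra.subset_adjoin ⟨_, rfl⟩)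
    have hi := hz i
    generalize W.repr z i = w at hi ⊢
    induction hi using Algebra.adjoin_induction with
    | mem x hx =>
      obtain ⟨c, rfl⟩ := hx
      rw [← IsScalarTower.algebraMap_apply, IsScalarTower.algebraMap_apply k' k'' K'']
      exact Algebra.subset_adjoin ⟨_, rfl⟩
    | algebraMap r =>
      exact Subalgebra.algebraMap_mem _ (⟨algebraMap K' K'' (r : K'), hR ▸ Subring.mem_map.2 ⟨_, r.2, rfl⟩⟩ : R)
    | add x y _ _ hx hy => rw [map_add]; exact add_mem hx hy
    | mul x y _ _ hx hy => rw [map_mul]; exact mul_mem hx hy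

variable {K : Type v} [Field k] [Field K] [Algebra k k'] [Algebra k k''] [IsScalarTower k k' k'']
  [FiniteDimensional k k'] [FiniteDimensional k' k''] [Algebra k K] [Algebra K K'] [Algebra k K']
  [IsScalarTower k k' K'] [IsScalarTower k K K'] [Algebra k K''] [Algebra K K'']
  [IsScalarTower K K' K''] [IsScalarTower k K K''] [FiniteDimensional K K']

theorem nonsingular_tower (hh : FF k K)
    (h2 : Function.Bijective (Algebra.TensorProduct.productMap
      (IsScalarTower.toAlgHom k' k'' K'') (IsScalarTower.toAlgHom k' K' K''))) (P : Place k K) :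
    (integralClosure (P.O.toSubring.map (algebraMap K K'')) K'' =
        Algebra.adjoin (P.O.toSubring.map (algebraMap K K'')) (Set.range (algebraMap k'' K''))) ↔
      (integralClosure (P.O.toSubring.map (algebraMap K K')) K' =
          Algebra.adjoin (P.O.toSubring.map (algebraMap K K')) (Set.range (algebraMap k' K')) ∧
        ∀ Q : Place k K', IsOver Q P →
          integralClosure (Q.O.toSubring.map (algebraMap K' K'')) K'' =
            Algebra.adjoin (Q.O.toSubring.map (algebraMap K' K'')) (Set.range (algebraMap k'' K''))) := by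
  classical
  set R' := P.O.toSubring.map (algebraMap K K') with hR'
  set R'' := P.O.toSubring.map (algebraMap K K'') with hR''
  have hmap : R'' = R'.map (algebraMap K' K'') := by
    rw [hR'', hR', Subring.map_map, ← IsScalarTower.algebraMap_eq]
  let ω := Module.finBasis k' k''
  obtain ⟨W, hW⟩ := exists_basis (K' := K') ω h2
  haveI : FiniteDimensional k k'' := FiniteDimensional.trans k k' k''
  -- integral closure in `K'`
  have hIC' : ∀ a : K', IsIntegral R' a ↔ ∀ Q : Place k K', IsOver Q P → Q.1 a ≤ 1 := by
    intro a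
    constructor
    · intro ha Q hQ
      have hle : R' ≤ Q.O.toSubring := by
        rintro _ ⟨r, hr, rfl⟩
        obtain ⟨e, he⟩ := hQ
        show Q.1 (algebraMap K K' r) ≤ 1
        rw [he]; exact pow_le_one₀ zero_le hr
      obtain ⟨b, hb⟩ := IsIntegrallyClosed.isIntegral_iff.1
        (show IsIntegral Q.O a from isIntegral_of_le hle ha)
      exact hb ▸ b.2
    · intro ha
      letI : Algebra P.O K' := ((algebraMap K K').comp P.O.subtype).toAlgebra
      haveI : IsScalarTower P.O K K' := IsScalarTower.of_algebraMap_eq' rfl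
      obtain ⟨p, hp, hp0⟩ := (isIntegral_iff hh P a).2 ha
      exact isIntegral_subring_of_ringHom R' _ (fun c => ⟨c.1, c.2, rfl⟩) hp hp0
  have hk'O : ∀ (Q : Place k K') (c : k'), Q.1 (algebraMap k' K' c) ≤ 1 := fun Q c => by
    rcases eq_or_ne c 0 with rfl | hc
    · simp
    · exact (val_eq_one_of_isAlgebraic Q ((Algebra.IsAlgebraic.isAlgebraic c).algebraMap) (by simpa using hc)).le
  have hadQ : ∀ (Q : Place k K') (z : K''),
      z ∈ Algebra.adjoin (Q.O.toSubring.map (algebraMap K' K'')) (Set.range (algebraMap k'' K'')) ↔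
        ∀ i, Q.1 (W.repr z i) ≤ 1 := by
    intro Q z
    rw [mem_adjoin_iff ω W hW Q.O.toSubring _ rfl]
    refine forall_congr' fun i => ⟨fun h => ?_, fun h =>
      Subalgebra.algebraMap_mem _ (⟨_, h⟩ : Q.O.toSubring)⟩
    generalize W.repr z i = w at h ⊢
    induction h using Algebra.adjoin_induction with
    | mem x hx => obtain ⟨c, rfl⟩ := hx; exact hk'O Q c
    | algebraMap r => exact r.2
    | add x y _ _ hx hy => exact (Valuation.map_add_le _ hx hy)
    | mul x y _ _ hx hy => rw [map_mul]; exact mul_le_one' hx hy
  have hconstint : ∀ (R : Subring K''), (∀ c : k, algebraMap k K'' c ∈ R) →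
      Algebra.adjoin R (Set.range (algebraMap k'' K'')) ≤ integralClosure R K'' := by
    intro R hR
    rw [Algebra.adjoin_le_iff]
    rintro _ ⟨c, rfl⟩
    have h1 := (IsIntegral.of_finite k c).map (⟨algebraMap k'' K'', fun r => ?_⟩ : k'' →ₐ[k] K'')
    · obtain ⟨p, hp, hp0⟩ := h1
      exact isIntegral_subring_of_ringHom R _ hR hp hp0
    · show algebraMap k'' K'' (algebraMap k k'' r) = algebraMap k K'' r
      rw [IsScalarTower.algebraMap_apply k k' k'', ← IsScalarTower.algebraMap_apply k' k'' K'',
        IsScalarTower.algebraMap_apply k' K' K'', ← IsScalarTower.algebraMap_apply k k' K',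
        IsScalarTower.algebraMap_apply k K K', ← IsScalarTower.algebraMap_apply K K' K'',
        ← IsScalarTower.algebraMap_apply]
  have hkP : ∀ c : k, algebraMap k K'' c ∈ R'' := fun c =>
    ⟨algebraMap k K c, P.2.1 c, (IsScalarTower.algebraMap_apply k K K'' c).symm⟩
  constructor
  · intro h
    refine ⟨?_, fun Q hQ => le_antisymm (fun z hz => ?_) (hconstint _ fun c => ?_)⟩
    · refine le_antisymm (fun a ha => ?_) ?_
      · have h1 : algebraMap K' K'' a ∈ integralClosure R'' K'' := by
          obtain ⟨p, hp, hp0⟩ := ha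
          refine isIntegral_subring_of_ringHom R'' ((algebraMap K' K'').comp (algebraMap R' K'))
            (fun r => hmap ▸ Subring.mem_map.2 ⟨_, r.2, rfl⟩) hp ?_
          rw [← hom_eval₂, hp0, map_zero]
        rw [h, mem_adjoin_iff ω W hW R' R'' hmap] at h1
        have e : (1 : K'') = ∑ i, algebraMap k' K' (ω.repr 1 i) • W i := by
          conv_lhs => rw [← map_one (algebraMap k'' K''), ← ω.sum_repr 1, map_sum]
          refine Finset.sum_congr rfl fun j _ => ?_
          rw [hW, Algebra.smul_def, Algebra.smul_def, map_mul, ← IsScalarTower.algebraMap_apply,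
            ← IsScalarTower.algebraMap_apply]
        obtain ⟨i, hi⟩ : ∃ i, ω.repr (1 : k'') i ≠ 0 := by
          by_contra hall
          push Not at hall
          exact one_ne_zero (ω.repr.injective (Finsupp.ext fun i => by rw [hall i, map_zero]; rfl))
        have h3 := h1 i
        rw [show algebraMap K' K'' a = a • (1 : K'') by rw [Algebra.smul_def, mul_one], map_smul, Finsupp.smul_apply,
          e, W.repr_sum_self, smul_eq_mul] at h3
        rw [show a = (a * algebraMap k' K' (ω.repr 1 i)) * algebraMap k' K' (ω.repr 1 i)⁻¹ by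
          rw [mul_assoc, ← map_mul, mul_inv_cancel₀ hi, map_one, mul_one]]
        exact Subalgebra.mul_mem _ h3 (Algebra.subset_adjoin ⟨_, rfl⟩)
      · rw [Algebra.adjoin_le_iff]
        rintro _ ⟨c, rfl⟩
        exact (hIC' _).2 fun Q _ => hk'O Q c
    · rw [hadQ]
      obtain ⟨p, hp, hp0⟩ := hz
      set S := (finite_fibre (K' := K') hh P).toFinset.erase Q with hS
      choose r hr hrc using fun j => Subring.mem_map.1 (p.coeff j).2
      obtain ⟨N, hN⟩ : ∃ N : ℕ, ∀ R ∈ S, ∀ j ∈ Finset.range (p.natDegree + 1), R.1 (r j) ≤ exp (N : ℤ) := by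
        refine ⟨∑ R ∈ S, ∑ j ∈ Finset.range (p.natDegree + 1), (-R.ord (r j)).toNat, fun R hR j hj => ?_⟩
        rcases eq_or_ne (r j) 0 with h0 | h0
        · rw [h0, map_zero]; exact zero_le
        · rw [val_le_exp_iff R h0]
          have h1 := Finset.single_le_sum (f := fun R : Place k K' =>
            ∑ j ∈ Finset.range (p.natDegree + 1), (-R.ord (r j)).toNat) (fun _ _ => Nat.zero_le _) hR
          have h2 := Finset.single_le_sum (f := fun j => (-R.ord (r j)).toNat) (fun _ _ => Nat.zero_le _) hj
          omega
      obtain ⟨a, ha1, ha2⟩ := exists_near_one_near_zero Q S (Finset.notMem_erase _ _) (N + 1)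
      have haQ : Q.1 a = 1 := by
        rw [show a = (a - 1) + 1 by ring, Valuation.map_add_eq_of_lt_right _ ?_, map_one]
        rw [map_one]
        exact lt_of_le_of_lt ha1 (by rw [← exp_zero, exp_lt_exp]; omega)
      have haz : algebraMap K' K'' a * z ∈ integralClosure R'' K'' := by
        obtain hd | hd := Nat.eq_zero_or_pos p.natDegree
        · exfalso
          rw [hp.natDegree_eq_zero.1 hd, eval₂_one] at hp0
          exact one_ne_zero hp0
        set q : K'[X] := X ^ p.natDegree + ∑ j ∈ Finset.range p.natDegree, C (r j * a ^ (p.natDegree - j)) * X ^ j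
        have hq0 : q.eval₂ (algebraMap K' K'') (algebraMap K' K'' a * z) = 0 := by
          rw [eval₂_eq_sum_range, Finset.sum_range_succ, hp.coeff_natDegree, map_one, one_mul] at hp0
          rw [eval₂_add, eval₂_finsetSum, eval₂_X_pow]
          simp only [eval₂_mul, eval₂_C, eval₂_X_pow]
          rw [show (0 : K'') = algebraMap K' K'' a ^ p.natDegree * 0 by ring, ← hp0, mul_add, Finset.mul_sum,
            mul_pow, add_comm]
          congr 1
          refine Finset.sum_congr rfl fun j hj => ?_
          rw [show algebraMap (Q.O.toSubring.map (algebraMap K' K'')) K'' (p.coeff j) = algebraMap K' K'' (r j) from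
            (hrc j).symm, map_mul, map_pow, mul_pow,
            ← pow_sub_mul_pow (algebraMap K' K'' a) (Finset.mem_range.1 hj).le]
          ring
        have hqm : q.Monic := monic_X_pow_add ((degree_sum_le _ _).trans_lt ((Finset.sup_lt_iff (WithBot.bot_lt_coe _)).2
          fun j hj => (degree_C_mul_X_pow_le _ _).trans_lt (WithBot.coe_lt_coe.2 (Finset.mem_range.1 hj))))
        have hcoef : ∀ j ∈ Finset.range p.natDegree, IsIntegral R' (r j * a ^ (p.natDegree - j)) := by
          intro j hj
          refine (hIC' _).2 fun R hR => ?_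
          rw [map_mul, map_pow]
          rcases eq_or_ne R Q with rfl | hne
          · rw [haQ, one_pow, mul_one]
            exact hr j
          · have hRS : R ∈ S := Finset.mem_erase.2 ⟨hne, (finite_fibre hh P).mem_toFinset.2 hR⟩
            rw [Finset.mem_range] at hj
            refine (mul_le_mul' (hN R hRS j (Finset.mem_range.2 (by omega)))
              (pow_le_pow_left₀ zero_le (ha2 R hRS) _)).trans ?_
            rw [← exp_nsmul, ← exp_add, ← exp_zero, exp_le_exp, nsmul_eq_mul, mul_neg]
            have h1 : ((N : ℤ) + 1) * 1 ≤ ((p.natDegree - j : ℕ) : ℤ) * ((N : ℤ) + 1) := by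
              rw [mul_comm]
              exact Int.mul_le_mul_of_nonneg_right (by omega) (by omega)
            push_cast
            omega
        -- transitivity
        let C'' := integralClosure R' K'
        have hint : IsIntegral R' (algebraMap K' K'' a * z : K'') → algebraMap K' K'' a * z ∈ integralClosure R'' K'' := by
          intro h3
          obtain ⟨f, hf, hf0⟩ := h3
          exact isIntegral_subring_of_ringHom R'' _ (fun x => hmap ▸ Subring.mem_map.2 ⟨_, x.2, rfl⟩) hf hf0
        refine hint (isIntegral_trans (A := C'') _ ?_)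
        have hl : q ∈ Polynomial.lifts (algebraMap C'' K') := by
          refine (Polynomial.lifts_iff_coeff_lifts q).2 fun n => ?_
          rw [coeff_add, finsetSum_coeff]
          simp only [coeff_C_mul_X_pow, Finset.sum_ite_eq, coeff_X_pow]
          refine ⟨⟨(if n = p.natDegree then 1 else 0) +
            (if n ∈ Finset.range p.natDegree then r n * a ^ (p.natDegree - n) else 0), ?_⟩, rfl⟩
          refine C''.add_mem ?_ ?_ <;> split
          · exact C''.one_mem
          · exact C''.zero_mem
          · exact hcoef n ‹_›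
          · exact C''.zero_mem
        obtain ⟨f, hf, hfd, hfm⟩ := Polynomial.lifts_and_natDegree_eq_and_monic hl hqm
        refine ⟨f, hfm, ?_⟩
        rw [IsScalarTower.algebraMap_eq C'' K' K'', ← eval₂_map, hf]
        exact hq0
      rw [h, mem_adjoin_iff ω W hW R' R'' hmap] at haz
      intro i
      have h3 := haz i
      rw [← Algebra.smul_def, map_smul, Finsupp.smul_apply, smul_eq_mul] at h3
      have h4 : Q.1 (a * W.repr z i) ≤ 1 := by
        generalize a * W.repr z i = w at h3 ⊢
        induction h3 using Algebra.adjoin_induction with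
        | mem x hx => obtain ⟨c, rfl⟩ := hx; exact hk'O Q c
        | algebraMap x => exact (hIC' _).1 (isIntegral_algebraMap (x := x)) Q hQ
        | add x y _ _ hx hy => exact Valuation.map_add_le _ hx hy
        | mul x y _ _ hx hy => rw [map_mul]; exact mul_le_one' hx hy
      rwa [map_mul, haQ, one_mul] at h4
    · exact ⟨algebraMap k K' c, Q.2.1 c, by
        rw [IsScalarTower.algebraMap_apply k K K', ← IsScalarTower.algebraMap_apply K K' K'',
          ← IsScalarTower.algebraMap_apply]⟩
  · rintro ⟨h', hQ⟩
    refine le_antisymm (fun z hz => ?_) (hconstint _ hkP)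
    rw [mem_adjoin_iff ω W hW R' R'' hmap]
    intro i
    rw [← h']
    refine (hIC' _).2 fun Q hQP => ?_
    refine (hadQ Q z).1 ?_ i
    rw [← hQ Q hQP]
    refine isIntegral_of_le ?_ hz
    rw [hmap]
    rintro _ ⟨x, ⟨r, hr, rfl⟩, rfl⟩
    obtain ⟨e, he⟩ := hQP
    refine ⟨_, ?_, rfl⟩
    show Q.1 (algebraMap K K' r) ≤ 1
    rw [he]; exact pow_le_one₀ zero_le hr

end Groth.Agent.NonsingTower28
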